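import Cfsg.Agent.Omega.ML.Ex.DFour.Core
import Cfsg.Agent.Mrg.Omega.ML.Ex.WallX
import Cfsg.Agent.Mrg.Omega.ML.Ex.TIE
import Cfsg.Agent.Mrg.Omega.NO3S.SLTwo.Tor
import Cfsg.Agent.Mrg.Omega.ML.RowTits
import Cfsg.Agent.Mrg.ParSys.Fam.D4
import Cfsg.Agent.Lib.FieldAutCard

section


/-!
# `³D₄(2)`: the local situation (helper809)

* `exists_nine` : an element of order nine of `SL₂(8)`;
* `Nd S P Φ w` : `P` normalises `Q` and contains the image of `SL₂(8)`;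
* **`Nd.dat`**, **`Nd.loc`**, **`Nd.false`**.
-/

set_option autoImplicit false
set_option linter.unusedSectionVars false

namespace Cfsg.Agent.Omega.ML.Ex.DFour

open Subgroup Cfsg.Agent.SplitTwo Cfsg.Agent.Omega.ML.CD
open Cfsg.Agent.Omega.ML.ExRow Cfsg.Agent.Omega.ML.Ex.NoTv Cfsg.Agent.ClassTwoFusion.Quad

universe u v w

local notation "SL2" => Matrix.SpecialLinearGroup (Fin 2)

section nine

variable {F : Type*} [Field F]

/-- an element of `F₈` with `t³ = t + 1` -/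
theorem exists_tau [Finite F] (h8 : Nat.card F = 8) (h2 : (2 : F) = 0) : ∃ t : F, t ^ 3 = t + 1 := by
  classical
  have : Fintype F := Fintype.ofFinite F
  rw [Nat.card_eq_fintype_card] at h8
  obtain ⟨a, ha⟩ : ∃ a : F, a ∉ ({0, 1} : Finset F) := by
    by_contra hcon
    push Not at hcon
    have h1 : (Finset.univ : Finset F) ⊆ {0, 1} := fun x _ => hcon x
    have h3 := Finset.card_le_card h1
    rw [Finset.card_univ, h8] at h3
    have h4 := Finset.card_le_two (a := (0 : F)) (b := 1)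
    omega
  rw [Finset.mem_insert, Finset.mem_singleton, not_or] at ha
  have h7 : a ^ 7 = 1 := by
    have h3 := FiniteField.pow_card_sub_one_eq_one a ha.1
    rwa [h8] at h3
  have h3 : (a - 1) * ((a ^ 3 + a + 1) * (a ^ 3 + a ^ 2 + 1)) = 0 := by
    linear_combination h7 + (a ^ 4 - a ^ 3) * h2
  rcases mul_eq_zero.1 h3 with h4 | h4
  · exact absurd (sub_eq_zero.1 h4) ha.2
  rcases mul_eq_zero.1 h4 with h5 | h5
  · exact ⟨a, by linear_combination h5 - (a + 1) * h2⟩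
  · refine ⟨a⁻¹, ?_⟩
    have h6 := ha.1
    field_simp
    linear_combination (-1) * h5 + h2

/-- an element of order nine of `SL₂(8)` -/
theorem exists_nine [Finite F] (h8 : Nat.card F = 8) (h2 : (2 : F) = 0) : ∃ y : SL2 F, y ^ 9 = 1 ∧ y ^ 3 ≠ 1 := by
  obtain ⟨t, ht⟩ := exists_tau h8 h2
  let y : SL2 F := ⟨!![0, -1; 1, t], by rw [Matrix.det_fin_two_of]; ring⟩
  have hy : (y : Matrix (Fin 2) (Fin 2) F) = !![0, -1; 1, t] := rfl
  have h3 : ((y ^ 3 : SL2 F) : Matrix (Fin 2) (Fin 2) F) = !![t, 1 + t ^ 2; 1 + t ^ 2, 1 + t] := by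
    rw [pow_succ, pow_succ, pow_one, Matrix.SpecialLinearGroup.coe_mul, Matrix.SpecialLinearGroup.coe_mul, hy]
    ext i j
    fin_cases i <;> fin_cases j <;> simp [Matrix.mul_apply, Fin.sum_univ_two]
    · linear_combination (-t) * h2
    · linear_combination (-t ^ 2) * h2
    · linear_combination (-1) * h2
    · linear_combination ht - t * h2
  refine ⟨y, ?_, ?_⟩
  · have e : y ^ 9 = y ^ 3 * y ^ 3 * y ^ 3 := by rw [← pow_add, ← pow_add]
    apply Subtype.ext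
    rw [e]
    have h4 : ((y ^ 3 * y ^ 3 : SL2 F) : Matrix (Fin 2) (Fin 2) F) = !![1 + t, 1 + t ^ 2; 1 + t ^ 2, t] := by
      rw [Matrix.SpecialLinearGroup.coe_mul, h3]
      ext i j
      fin_cases i <;> fin_cases j <;> simp [Matrix.mul_apply, Fin.sum_univ_two]
      · linear_combination t * ht + (t ^ 2 + t ^ 2) * h2
      · linear_combination (t + t ^ 3) * h2
      · linear_combination (t + t ^ 3) * h2
      · linear_combination t * ht + (t ^ 2 + t ^ 2 + 1 + t) * h2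
    rw [Matrix.SpecialLinearGroup.coe_mul, h4, h3, Matrix.SpecialLinearGroup.coe_one]
    ext i j
    fin_cases i <;> fin_cases j <;> simp [Matrix.mul_apply, Fin.sum_univ_two]
    · linear_combination t * ht + (t ^ 2 + t ^ 2 + t) * h2
    · linear_combination (t + t ^ 3 + 1 + t ^ 2) * h2
    · linear_combination (t + t ^ 3) * h2
    · linear_combination t * ht + (t ^ 2 + t ^ 2 + t) * h2
  · intro h
    rw [h, Matrix.SpecialLinearGroup.coe_one] at h3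
    have h4 := congrFun (congrFun h3 0) 0
    have h5 := congrFun (congrFun h3 1) 1
    simp only [Matrix.one_apply_eq, Matrix.of_apply, Matrix.cons_val', Matrix.cons_val_zero, Matrix.cons_val_one,
      Matrix.cons_val_fin_one] at h4 h5
    have h6 : (1 : F) = 0 := by linear_combination h5 - h4 + h2
    exact one_ne_zero h6

end nine

section nd

variable {E : Type w} [Field E] {σ : E ≃+* E} {Y : Type u} [Group Y] {x1 x2 x3 x4 x5 x6 : E → Y}

/-- the situation -/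
structure Nd (S : Sys σ x1 x2 x3 x4 x5 x6) (P : Subgroup Y) {F : Type*} [Field F] (Φ : SL2 F →* Y) (w : Y) :
    Prop where
  c8 : Nat.card E = 8
  f8 : Nat.card F = 8
  f2 : (2 : F) = 0
  QP : S.Q ≤ P
  nQ : ∀ g ∈ P, ∀ q ∈ S.Q, g * q * g⁻¹ ∈ S.Q
  rP : Φ.range ≤ P
  m1 : ∀ c, x1 c ∈ Φ.range
  mw : w ∈ Φ.range
  w2 : w * x2 1 * w⁻¹ = x6 1
  w4 : w * x4 1 * w⁻¹ = x4 1

variable {S : Sys σ x1 x2 x3 x4 x5 x6} {P : Subgroup Y} {F : Type*} [Field F] {Φ : SL2 F →* Y} {w : Y}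

namespace Nd

theorem irr (N : Nd S P Φ w) {E' : Subgroup Y} (hE : Φ.range ≤ E') {D : Subgroup Y} (hD : D ≤ S.Q)
    (h : ∀ g ∈ E', ∀ d ∈ D, g * d * g⁻¹ ∈ D) : (∀ d ∈ D, d = 1 ∨ d = x4 1) ∨ D = S.Q := by
  refine S.irr hD (fun c d hd => ?_) (fun d hd => h w (hE N.mw) d hd) N.w2 N.w4
  have h1 := h (x1 c)⁻¹ (inv_mem (hE (N.m1 c))) d hd
  rwa [inv_inv] at h1

theorem nab (_ : Nd S P Φ w) : x3 1 * x5 1 ≠ x5 1 * x3 1 := by
  intro h
  apply S.ne4
  rw [← S.comm35, h]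
  group

theorem zz (_ : Nd S P Φ w) : x4 1 * x4 1 = (1 : Y) := by
  rw [← S.rel.add4 1 1 (map_one σ) (map_one σ), S.aa, S.z4]

/-- `P` centralises `x₄ 1` -/
theorem cen (N : Nd S P Φ w) : ∀ p ∈ P, p * x4 1 = x4 1 * p := by
  have hs1 := map_one σ
  let Z : Subgroup Y := S.Q ⊓ centralizer (S.Q : Set Y)
  have hZ : ∀ g ∈ P, ∀ d ∈ Z, g * d * g⁻¹ ∈ Z := by
    intro g hg d hd
    refine mem_inf.2 ⟨N.nQ g hg d (mem_inf.1 hd).1, mem_centralizer_iff.2 fun c hc => ?_⟩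
    have h1 := N.nQ g⁻¹ (P.inv_mem hg) c hc
    rw [inv_inv] at h1
    have h2 := mem_centralizer_iff.1 (mem_inf.1 hd).2 _ h1
    calc c * (g * d * g⁻¹) = g * (g⁻¹ * c * g * d) * g⁻¹ := by group
      _ = g * (d * (g⁻¹ * c * g)) * g⁻¹ := by rw [h2]
      _ = g * d * g⁻¹ * c := by group
  have hzZ : x4 1 ∈ Z := mem_inf.2 ⟨S.m4 hs1, mem_centralizer_iff.2 fun g hg => S.z_comm hg⟩
  rcases N.irr N.rP (inf_le_left : Z ≤ S.Q) hZ with h | h
  · intro p hp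
    rcases h _ (hZ p hp _ hzZ) with h1 | h1
    · exfalso
      apply S.ne4
      rw [mul_inv_eq_one] at h1
      calc x4 1 = p⁻¹ * (p * x4 1) := by group
        _ = 1 := by rw [h1, inv_mul_cancel]
    · rw [mul_inv_eq_iff_eq_mul] at h1
      exact h1
  · exfalso
    apply N.nab
    have h3 : x3 1 ∈ Z := h.ge S.m3
    exact (mem_centralizer_iff.1 (mem_inf.1 h3).2 _ S.m5).symm

theorem loc (N : Nd S P Φ w) : Loc (x4 1) P S.Q where
  zz := N.zz
  z1 := S.ne4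
  zR := S.m4 (map_one σ)
  cR := fun _ hr => S.z_comm hr
  cP := N.cen
  nR := N.nQ
  irr := fun _ hB h => N.irr N.rP hB h
  nab := ⟨_, S.m3, _, S.m5, N.nab⟩

theorem card (N : Nd S P Φ w) : Nat.card S.Q = 2 ^ 9 := by
  have : Finite E := Nat.finite_of_card_ne_zero (by rw [N.c8]; norm_num)
  exact S.card_Q N.c8

theorem dat (N : Nd S P Φ w) : ∃ E' : Subgroup Y, Φ.range ≤ E' ∧ Dat.{u, v} Y P E' S.Q 4 := by
  have : Finite F := Nat.finite_of_card_ne_zero (by rw [N.f8]; norm_num)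
  have : CharP F 2 := CharTwo.of_one_ne_zero_of_two_eq_zero one_ne_zero N.f2
  obtain ⟨y, hy9, hy3⟩ := exists_nine N.f8 N.f2
  let Φ' : SL2 F →* P := Φ.codRestrict P fun x => N.rP ⟨x, rfl⟩
  have hΦ' : ∀ x, (Φ' x : Y) = Φ x := fun x => rfl
  let L : Subgroup P := normalClosure {Φ' y ^ 3}
  have hL : L.Normal := normalClosure_normal
  have hc : L.comap Φ' = ⊤ := by
    refine NO3S.SLTwo.eq_top_of_normal (by rw [N.f8]; norm_num) (hL.comap Φ') ?_
    intro h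
    have h1 : y ^ 3 ∈ L.comap Φ' := by
      rw [mem_comap, map_pow]
      exact subset_normalClosure rfl
    rw [h, mem_bot] at h1
    exact hy3 h1
  have hr : Φ.range ≤ L.map P.subtype := by
    rintro _ ⟨x, rfl⟩
    have h1 : x ∈ L.comap Φ' := hc ▸ mem_top x
    exact ⟨Φ' x, h1, rfl⟩
  refine ⟨L.map P.subtype, hr, ⟨N.QP, map_subtype_le _, N.nQ, N.card, ⟨_, S.m3, _, S.m5, N.nab⟩, ?_, ?_⟩⟩
  · intro D hD h
    refine (N.irr hr hD h).imp_left fun h1 => ?_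
    have h2 : (D : Set Y) ⊆ {1, x4 1} := fun d hd => h1 d hd
    have h3 : Nat.card D = (D : Set Y).ncard := rfl
    rw [h3]
    refine (Set.ncard_le_ncard h2).trans ?_
    have h4 := Set.ncard_insert_le (1 : Y) {x4 1}
    rwa [Set.ncard_singleton] at h4
  · have h1 : (L.map P.subtype).subgroupOf P = L := comap_map_eq_self_of_injective P.subtype_injective _
    rw [h1]
    exact TrivNine.trivOn_nine (y := Φ' y) (by rw [← map_pow, hy9, map_one])

/-- **The contradiction.** -/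
theorem false [Finite Y] {M : Type v} [Group M] [Finite M] [MulDistribMulAction Y M] (N : Nd S P Φ w)
    (sq : ∀ m : M, m * m = 1) (faith : ∀ h : Y, (∀ m : M, h • m = m) → h = 1) {k : Y} (hk : k * x4 1 * k⁻¹ ∈ S.Q)
    (hkz : k * x4 1 * k⁻¹ ≠ x4 1) {A : Subgroup Y} (hAQ : A ≤ S.Q)
    (hge : fab M 1 1 (⊥ : Subgroup Y) ≤ fab M 1 1 A) (el : ∀ a ∈ A, a * a = 1) (h2 : 2 < Nat.card A) : False := by
  obtain ⟨E', hE, D⟩ := N.dat
  obtain ⟨z, hz, hz1, hzc, hi, -⟩ := D.exists_tr sq faith hAQ hge el h2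
  have hR : IsPGroup 2 S.Q := IsPGroup.of_card N.card
  -- `z = x₄ 1`
  have h3 : z = x4 1 := by
    have h4 : zpowers z ≤ S.Q := by
      rw [zpowers_le]
      exact hAQ hz
    have h5 : ∀ g ∈ P, ∀ d ∈ zpowers z, g * d * g⁻¹ ∈ zpowers z := by
      rintro g hg _ ⟨j, rfl⟩
      refine ⟨j, ?_⟩
      have h6 : g * z * g⁻¹ = z := by rw [hzc g hg, mul_inv_cancel_right]
      have h7 : g * z ^ j * g⁻¹ = (g * z * g⁻¹) ^ j := (conj_zpow).symm
      change z ^ j = g * z ^ j * g⁻¹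
      rw [h7, h6]
    rcases N.irr N.rP h4 h5 with h6 | h6
    · exact (h6 z (mem_zpowers z)).resolve_left hz1
    · exfalso
      apply N.nab
      have h7 : x3 1 ∈ zpowers z := h6 ▸ S.m3
      have h8 : x5 1 ∈ zpowers z := h6 ▸ S.m5
      obtain ⟨i, hi⟩ := mem_zpowers_iff.1 h7
      obtain ⟨j, hj⟩ := mem_zpowers_iff.1 h8
      rw [← hi, ← hj]
      exact (Commute.refl z).zpow_zpow i j
  rw [h3] at hi
  exact N.loc.index_ne_two hR sq faith hk hkz hi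

end Nd

end nd

end Cfsg.Agent.Omega.ML.Ex.DFour

end

section


/-!
# `³D₄(2)`: the model (helper809)

`P` = the parabolic subgroup of the node `1` of `twistedD4 K 2`, `|K| = 8`; `O₂(P) = Q` of order `2 ^ 9`.
-/

set_option autoImplicit false
set_option linter.unusedSectionVars false

namespace Cfsg.Agent.Omega.ML.Ex.DFour

open Subgroup Cfsg.Agent.SplitTwo Cfsg.Agent.Omega.ML.CD
open CoxeterSystem Cfsg.Agent.ChevalleyStructure.CoxeterGeom Cfsg.Agent.Tits.Roots Cfsg.Agent.Tits.Core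
  Cfsg.Agent.Tits.RootComb Cfsg.Agent.Nodes.Comb Cfsg.Agent.Nodes.Reps Cfsg.Agent.Nodes.BNOf
  Cfsg.Agent.Nodes.BNOf.RGD Cfsg.Agent.Nodes.RGDChev Cfsg.Agent.Nodes.RGDFold Cfsg.Agent.Nodes.StabComb
  Cfsg.Agent.Nodes.LeviDec Cfsg.Agent.Nodes.Bruhat
open Cfsg.Lie Cfsg.Agent.ChevalleyStructure
open Cfsg.Agent.Hexagon Cfsg.Agent.ParSys.Fam
open Cfsg.Agent.Nodes.RGDFoldSL (Fx mem_Fx wS)
open Cfsg.Agent.ChevalleyStructure.SL2Hom (up lo mem_closure_SL2)
open Cfsg.Agent.Omega.ML.LieRgd (le_VJ PJ_ne_top)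

universe u v

theorem rep22 : rep D4.cs Nodes.RGDTwD4.isCartan (D4.cs.simple 1) (V chevD4 Nodes.RGDTwD4.J 22) = sr 0 := by
  rw [rep_simple_eq]
  decide +kernel

theorem rep23 : rep D4.cs Nodes.RGDTwD4.isCartan (D4.cs.simple 1) (V chevD4 Nodes.RGDTwD4.J 23) =
    V chevD4 Nodes.RGDTwD4.J 23 := by
  rw [rep_simple_eq]
  decide +kernel

theorem rep23' : rep D4.cs Nodes.RGDTwD4.isCartan (D4.cs.simple 0) (V chevD4 Nodes.RGDTwD4.J 23) =
    V chevD4 Nodes.RGDTwD4.J 22 := by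
  rw [rep_simple_eq]
  decide +kernel

theorem pos0 (k : ℕ) (hk : k = 22 ∨ k = 17 ∨ k = 23 ∨ k = 19) :
    k < chevD4.nroots ∧ (∀ i : Fin 2, 0 ≤ V chevD4 Nodes.RGDTwD4.J k i) ∧ 0 < V chevD4 Nodes.RGDTwD4.J k 0 := by
  rcases hk with rfl | rfl | rfl | rfl <;> decide +kernel

/-- the exported statement -/
structure Pk (Y : Type u) [Group Y] (P Q U : Subgroup Y) : Prop where
  ne : P ≠ ⊤
  UP : U ≤ P
  U2 : IsPGroup 2 U
  Ui : ¬ 2 ∣ U.index
  le : ∀ N : Subgroup Y, IsPGroup 2 N → (∀ g ∈ P, ∀ x ∈ N, g * x * g⁻¹ ∈ N) → N ≤ Q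
  fls : ∀ (M : Type v) [Group M] [Finite M] [MulDistribMulAction Y M], (∀ m : M, m * m = 1) →
    (∀ y : Y, (∀ m : M, y • m = m) → y = 1) → ∀ A : Subgroup Y, A ≤ Q →
    fab M 1 1 (⊥ : Subgroup Y) ≤ fab M 1 1 A → (∀ a ∈ A, a * a = 1) → 2 < Nat.card A → False

/-- **`³D₄(2)`** -/
theorem exists_pk {K : Type u} [Field K] [Fintype K] [CharP K 2] (hK : Fintype.card K = 2 ^ 3) :
    ∃ P Q U : Subgroup ↥(twistedD4 K 2), Pk.{u, v} ↥(twistedD4 K 2) P Q U := by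
  have : Fact (Nat.Prime 2) := ⟨Nat.prime_two⟩
  obtain ⟨φ, hφ⟩ := D4Fixed.exists_frob Nat.prime_two.isPrimePow hK
  have hle := D4Fixed.twisted_le_fix hK hφ
  have hbij : Function.Bijective φ := Finite.injective_iff_bijective.1 φ.injective
  have h3 : ∀ a, φ (φ (φ a)) = a := by
    intro t
    rw [hφ, hφ, hφ, ← pow_mul, ← pow_mul]
    have : 2 * (2 * 2) = 2 ^ 3 := by ring
    rw [this, ← hK]
    exact FiniteField.pow_card t
  have hfin := Nodes.RGDChev.finite_W (M := CoxeterMatrix.G₂) ParSys.Fam.G2.hp D4.cs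
  have R := Nodes.RGDTwD4.rgd (K := K) D4.cs hK hφ 2
  have hG := KFacts.RgdRigid.GG_eq_top (T := Nodes.RGDTwD4.T K 2) (Nodes.RGDTwD4.G1_eq_top D4.cs hK hφ)
  let σ : K ≃+* K := RingEquiv.ofBijective φ hbij
  have hσ : ∀ x, σ x = x ^ 2 := hφ
  have H := TwD4Par.hexPar hφ hle (σ := σ) (fun _ => rfl) h3
  have h20 : (2 : K) = 0 := by exact_mod_cast CharP.cast_eq_zero K 2
  have hs1 := map_one σ
  have hs0 := map_zero σ
  have hf2 : ∀ t : K, σ t = t → t = 0 ∨ t = 1 := by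
    intro t ht
    rw [hσ] at ht
    have h5 : t * (t - 1) = 0 := by linear_combination ht
    rcases mul_eq_zero.1 h5 with h6 | h6
    · exact Or.inl h6
    · exact Or.inr (sub_eq_zero.1 h6)
  have hz4 : TwD4Par.ev (K := K) (q := 2) TwD4Rel.X4 0 = 1 := by
    have h := H.rel.add4 0 0 hs0 hs0
    rw [add_zero] at h
    exact (mul_eq_left.1 h.symm)
  have hne : ∃ d, σ d ≠ d := by
    classical
    by_contra hcon
    push Not at hcon
    have h5 : (Finset.univ : Finset K) ⊆ {0, 1} := by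
      intro x _
      rcases hf2 x (hcon x) with h | h
      · simp [h]
      · simp [h]
    have h6 := Finset.card_le_card h5
    rw [Finset.card_univ, hK] at h6
    have h7 := Finset.card_le_two (a := (0 : K)) (b := 1)
    omega
  have S : Sys σ (TwD4Par.ev (K := K) (q := 2) (TwD4Rel.X1 σ)) (TwD4Par.ev TwD4Rel.X2) (TwD4Par.ev (TwD4Rel.X3 σ))
      (TwD4Par.ev TwD4Rel.X4) (TwD4Par.ev (TwD4Rel.X5 σ)) (TwD4Par.ev TwD4Rel.X6) :=
    ⟨H.rel, h20, hf2, fun h => one_ne_zero (H.inj4 _ _ hs1 hs0 (h.trans hz4.symm)), hne⟩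
  have c1 := D4.mem_iff (q := 2) hle (k := 1) Nodes.RGDTwD4.cls1 (by decide +kernel) D4.L_eqs.1
  have c2 := D4.mem_iff (q := 2) hle (k := 2) D4.cls2 (by decide +kernel) D4.L_eqs.2.1
  have c3 := D4.mem_iff (q := 2) hle (k := 3) D4.cls3 (by decide +kernel) D4.L_eqs.2.2.1
  have c4 := D4.mem_iff (q := 2) hle (k := 4) D4.cls4 (by decide +kernel) D4.L_eqs.2.2.2.1
  have c5 := D4.mem_iff (q := 2) hle (k := 5) D4.cls5 (by decide +kernel) D4.L_eqs.2.2.2.2.1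
  have c6 := D4.mem_iff (q := 2) hle (k := 6) Nodes.RGDTwD4.cls0 (by decide +kernel) D4.L_eqs.2.2.2.2.2
  have hrt : ∀ k, k < chevD4.nroots → IsRoot D4.cs Nodes.RGDTwD4.isCartan (V chevD4 Nodes.RGDTwD4.J k) :=
    fun k hk => (D4.isRoot_iff' _).2 ⟨k, hk, rfl⟩
  -- `V_J = Q`
  have hVQ : VJ D4.cs Nodes.RGDTwD4.isCartan (Nodes.RGDTwD4.X φ 2) {1} = S.Q := by
    apply le_antisymm
    · refine RGD.Sup_le fun z hz => ?_
      obtain ⟨hz1, hz2, j, hj, hj0⟩ := hz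
      obtain ⟨k, hk, rfl⟩ := (D4.isRoot_iff' z).1 hz1
      intro g hg
      rcases D4.pos_cases k hk hz2 with e | e | e | e | e | e
      · rw [e, c6] at hg
        obtain ⟨t, ht, rfl⟩ := (H.mem6 g).1 hg
        exact S.m6 ht
      · exfalso
        rw [e] at hj0
        have h5 : (sr 1 : Fin 2 → ℤ) j = 0 := Pi.single_eq_of_ne (by simpa using hj) _
        omega
      · rw [e, c2] at hg
        obtain ⟨t, ht, rfl⟩ := (H.mem2 g).1 hg
        exact S.m2 ht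
      · rw [e, c3] at hg
        obtain ⟨t, rfl⟩ := (H.mem3 g).1 hg
        exact S.m3
      · rw [e, c4] at hg
        obtain ⟨t, ht, rfl⟩ := (H.mem4 g).1 hg
        exact S.m4 ht
      · rw [e, c5] at hg
        obtain ⟨t, rfl⟩ := (H.mem5 g).1 hg
        exact S.m5
    · have hV : ∀ k, k = 22 ∨ k = 17 ∨ k = 23 ∨ k = 19 → Nodes.RGDTwD4.X φ 2 (V chevD4 Nodes.RGDTwD4.J k) ≤
          VJ D4.cs Nodes.RGDTwD4.isCartan (Nodes.RGDTwD4.X φ 2) {1} := by
        intro k hk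
        obtain ⟨h5, h6, h7⟩ := pos0 k hk
        exact RGD.le_Sup (S := NotJ D4.cs Nodes.RGDTwD4.isCartan {1}) ⟨hrt k h5, h6, 0, by simp, h7⟩
      have h0 : Nodes.RGDTwD4.X φ 2 (sr 0) ≤ VJ D4.cs Nodes.RGDTwD4.isCartan (Nodes.RGDTwD4.X φ 2) {1} :=
        RGD.le_Sup (S := NotJ D4.cs Nodes.RGDTwD4.isCartan {1})
          ⟨isRoot_sr _ _ 0, sr_nonneg 0, 0, by simp, by decide⟩
      refine S.Q_le (fun t ht => hV 22 (by simp) ((c2 _).2 ((H.mem2 _).2 ⟨t, ht, rfl⟩)))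
        (fun t => hV 17 (by simp) ((c3 _).2 ((H.mem3 _).2 ⟨t, rfl⟩)))
        (fun t ht => hV 23 (by simp) ((c4 _).2 ((H.mem4 _).2 ⟨t, ht, rfl⟩)))
        (fun t => hV 19 (by simp) ((c5 _).2 ((H.mem5 _).2 ⟨t, rfl⟩)))
        (fun t ht => h0 ((c6 _).2 ((H.mem6 _).2 ⟨t, ht, rfl⟩)))
  -- conjugation by the reflections
  have hz2 : TwD4Par.ev (K := K) (q := 2) TwD4Rel.X2 0 = 1 := S.z2
  have hz6 : TwD4Par.ev (K := K) (q := 2) TwD4Rel.X6 0 = 1 := S.z6
  have hn2 : TwD4Par.ev (K := K) (q := 2) TwD4Rel.X2 1 ≠ 1 :=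
    fun h => one_ne_zero (H.inj2 _ _ hs1 hs0 (h.trans hz2.symm))
  have hcj1 : ∀ {g x : ↥(twistedD4 K 2)}, g * x * g⁻¹ = 1 → x = 1 := by
    intro g x h
    rw [mul_inv_eq_one] at h
    calc x = g⁻¹ * (g * x) := by group
      _ = 1 := by rw [h, inv_mul_cancel]
  have w2 : Nodes.RGDTwD4.n hφ 1 * TwD4Par.ev TwD4Rel.X2 1 * (Nodes.RGDTwD4.n hφ 1)⁻¹ = TwD4Par.ev TwD4Rel.X6 1 := by
    have h5 := R.conj_mem (rp_simple D4.cs R.nsys 1) (hrt 22 (pos0 22 (by simp)).1)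
      ((c2 _).2 ((H.mem2 _).2 ⟨1, hs1, rfl⟩))
    rw [rep22, c6, H.mem6] at h5
    obtain ⟨a, ha, h6⟩ := h5
    rcases hf2 a ha with rfl | rfl
    · exact absurd (hcj1 (h6.symm.trans hz6)) hn2
    · exact h6.symm
  have w4 : Nodes.RGDTwD4.n hφ 1 * TwD4Par.ev TwD4Rel.X4 1 * (Nodes.RGDTwD4.n hφ 1)⁻¹ = TwD4Par.ev TwD4Rel.X4 1 := by
    have h5 := R.conj_mem (rp_simple D4.cs R.nsys 1) (hrt 23 (pos0 23 (by simp)).1)
      ((c4 _).2 ((H.mem4 _).2 ⟨1, hs1, rfl⟩))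
    rw [rep23, c4, H.mem4] at h5
    obtain ⟨a, ha, h6⟩ := h5
    rcases hf2 a ha with rfl | rfl
    · exact absurd (hcj1 (h6.symm.trans hz4)) S.ne4
    · exact h6.symm
  have k4 : Nodes.RGDTwD4.n hφ 0 * TwD4Par.ev TwD4Rel.X4 1 * (Nodes.RGDTwD4.n hφ 0)⁻¹ = TwD4Par.ev TwD4Rel.X2 1 := by
    have h5 := R.conj_mem (rp_simple D4.cs R.nsys 0) (hrt 23 (pos0 23 (by simp)).1)
      ((c4 _).2 ((H.mem4 _).2 ⟨1, hs1, rfl⟩))
    rw [rep23', c2, H.mem2] at h5
    obtain ⟨a, ha, h6⟩ := h5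
    rcases hf2 a ha with rfl | rfl
    · exact absurd (hcj1 (h6.symm.trans hz2)) S.ne4
    · exact h6.symm
  have hkz : TwD4Par.ev (K := K) (q := 2) TwD4Rel.X2 1 ≠ TwD4Par.ev TwD4Rel.X4 1 := by
    intro h
    rw [S.FF2, S.FF4] at h
    exact one_ne_zero (S.FF_inj hs1 hs0 hs0 hs0 hs0 hs1 h).1
  -- the `SL₂(8)`
  have hX1 : Nodes.RGDTwD4.X φ 2 (sr 1) ≤ PJ D4.cs Nodes.RGDTwD4.isCartan (Nodes.RGDTwD4.T K 2)
      (Nodes.RGDTwD4.X φ 2) {1} :=
    (X_le_LJ ⟨isRoot_sr _ _ 1, fun k hk => Pi.single_eq_of_ne (by simpa using hk) _⟩).trans LJ_le_PJ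
  have hX1n : Nodes.RGDTwD4.X φ 2 (-sr 1) ≤ PJ D4.cs Nodes.RGDTwD4.isCartan (Nodes.RGDTwD4.T K 2)
      (Nodes.RGDTwD4.X φ 2) {1} := by
    refine (X_le_LJ ⟨(isRoot_sr _ _ 1).neg, fun k hk => ?_⟩).trans LJ_le_PJ
    rw [Pi.neg_apply, neg_eq_zero]
    exact Pi.single_eq_of_ne (by simpa using hk) _
  have hrP : (D4.Ph hφ hle 1).range ≤ PJ D4.cs Nodes.RGDTwD4.isCartan (Nodes.RGDTwD4.T K 2)
      (Nodes.RGDTwD4.X φ 2) {1} := by
    rintro _ ⟨A, rfl⟩
    have h2 : Subgroup.closure (Set.range up ∪ Set.range lo) ≤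
        (PJ D4.cs Nodes.RGDTwD4.isCartan (Nodes.RGDTwD4.T K 2) (Nodes.RGDTwD4.X φ 2) {1}).comap (D4.Ph hφ hle 1) := by
      rw [Subgroup.closure_le]
      rintro _ (⟨a, rfl⟩ | ⟨a, rfl⟩)
      · exact hX1 ((D4.mem_X hφ hle 1 _).2 ⟨a, rfl⟩)
      · rw [SetLike.mem_coe, mem_comap, Nodes.RGDFoldSL.lo_eq, map_mul, map_mul, map_inv, D4.Ph_wS]
        have h3 := R.conj_mem (rp_simple D4.cs R.nsys 1) (isRoot_sr _ _ 1) ((D4.mem_X hφ hle 1 _).2 ⟨-a, rfl⟩)
        rw [rep_simple_sr] at h3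
        exact hX1n h3
    exact h2 (mem_closure_SL2 A)
  have hm1 : ∀ c, TwD4Par.ev (TwD4Rel.X1 σ) c ∈ (D4.Ph hφ hle 1).range := by
    intro c
    obtain ⟨a, ha⟩ := (D4.mem_X hφ hle 1 _).1 ((c1 _).2 ((H.mem1 _).2 ⟨c, rfl⟩))
    exact ⟨up a, ha.symm⟩
  have hFx : Nat.card (Fx φ ((Nodes.RGDTwNode.D4.rest 1).length + 1)) = 8 := by
    have h5 : ∀ a : K, a ∈ Fx φ ((Nodes.RGDTwNode.D4.rest 1).length + 1) := fun a => mem_Fx.2 (h3 a)
    rw [Nat.card_congr (Equiv.subtypeUnivEquiv h5), Nat.card_eq_fintype_card, hK]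
    norm_num
  have N : Nd S (PJ D4.cs Nodes.RGDTwD4.isCartan (Nodes.RGDTwD4.T K 2) (Nodes.RGDTwD4.X φ 2) {1})
      (D4.Ph hφ hle 1) (Nodes.RGDTwD4.n hφ 1) := by
    refine ⟨?_, hFx, Subtype.ext h20, ?_, ?_, hrP, hm1, ⟨_, D4.Ph_wS hφ hle 1⟩, w2, w4⟩
    · rw [Nat.card_eq_fintype_card, hK]
      norm_num
    · rw [← hVQ]
      exact VJ_le_PJ
    · intro g hg q hq
      rw [← hVQ] at hq ⊢
      exact (mem_normalizer_iff.1 (PJ_le_normalizer_VJ R _ hg) q).1 hq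
  have hfinY : Finite ↥(twistedD4 K 2) := inferInstance
  refine ⟨PJ D4.cs Nodes.RGDTwD4.isCartan (Nodes.RGDTwD4.T K 2) (Nodes.RGDTwD4.X φ 2) {1}, S.Q,
    RGD.Sup (Nodes.RGDTwD4.X φ 2) (Pos D4.cs Nodes.RGDTwD4.isCartan), ?_⟩
  refine ⟨PJ_ne_top R (J := {1}) ?_, U_le_B.trans B_le_PJ, R.isPGroup_Upos, ?_, ?_, ?_⟩
  · intro h
    have h5 : (0 : Fin 2) ∈ ({1} : Set (Fin 2)) := h ▸ Set.mem_univ _
    simp at h5
  · have h1 := KFacts.RgdSyl.not_dvd_relIndex R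
    rwa [hG, relIndex_top_right] at h1
  · intro N' hN' h
    rw [← hVQ]
    exact le_VJ R hG hN' h
  · intro M _ _ _ sq faith A hA hge el h2
    exact N.false sq faith (k := Nodes.RGDTwD4.n hφ 0) (by rw [k4]; exact S.m2 hs1) (by rw [k4]; exact hkz) hA hge el h2

end Cfsg.Agent.Omega.ML.Ex.DFour

end

section


/-!
# The row `³D₄(2)` of (EXL) (helper809, helper598)

THEOREM EX for exact `A` (`ExRow.Dat.exists_tr`) at the parabolic subgroup `2^{1+8}.SL₂(8)`: an element of order 9 of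
`SL₂(8)` on modules of order at most 16 (`Ex/TrivNine.lean`), `Q = O₂(P)` is irreducible modulo `⟨z⟩` (`Ex/DFour/Core.lean`),
`z` is not a transvection (`Ex/NoTv.lean`).  Only `InX` is used.

* `le_of_two` : `T ≤ K`;
* **`deadX_twD4_two`**.
-/

set_option autoImplicit false
set_option linter.unusedSectionVars false

namespace Cfsg.Agent.Omega.ML.Ex.RowTwDTwo

open Subgroup Cfsg Cfsg.Agent.ZN Cfsg.Agent.Omega.NOThree.NoOver Cfsg.Agent.Omega.ML.CD
open Cfsg.Agent.ClassTwoFusion.Quad Cfsg.Agent.Omega.ML.Ex.DFour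
open Cfsg.Agent.MinSimple.VModule (o2_isPGroup o2_le le_o2 le_normalizer_o2)

universe u v w

/-- 2-subgroups of `N_H(K)`, `C_H(K) = 1`, are in `K` if `K` is `³D₄(2)` -/
theorem le_of_two {H : Type u} [Group H] {K T : Subgroup H} (hK : K.Normal) (hc : centralizer (K : Set H) = ⊥)
    (hT : IsPGroup 2 T) {F : Type w} [Field F] [Fintype F] [CharP F 2] (hF : Fintype.card F = 2 ^ 3)
    (e : K ≃* ↥(Lie.twistedD4 F 2)) : T ≤ K := by
  have : Fact (Nat.Prime 2) := ⟨Nat.prime_two⟩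
  let c : H →* MulAut K := MulAut.conjNormal
  obtain ⟨f, hf⟩ := KFacts.TwDFour.Out.exists_hom Nat.prime_two.isPrimePow hF e 2 (hT.map c)
  have h3 := Lib.FieldAutCard.card_ringAut (F := F) (p := 2) (f := 3) (by norm_num) hF
  intro t ht
  have h4 : f ⟨c t, t, ht, rfl⟩ = 1 := by
    obtain ⟨k, hk⟩ := hT ⟨t, ht⟩
    have h5 : f ⟨c t, t, ht, rfl⟩ ^ (2 ^ k) = 1 := by
      rw [← map_pow]
      have h6 : (⟨c t, t, ht, rfl⟩ : T.map c) ^ 2 ^ k = 1 := by
        apply Subtype.ext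
        change (c t) ^ 2 ^ k = 1
        rw [← map_pow]
        have h7 : t ^ 2 ^ k = 1 := congrArg Subtype.val hk
        rw [h7, map_one]
      rw [h6, map_one]
    have h6 : f ⟨c t, t, ht, rfl⟩ ^ 3 = 1 := by
      rw [← h3]
      exact pow_card_eq_one'
    have h7 := orderOf_dvd_of_pow_eq_one h5
    have h8 := orderOf_dvd_of_pow_eq_one h6
    have h9 : Nat.Coprime (2 ^ k) 3 := Nat.Coprime.pow_left k (by norm_num)
    have h10 := Nat.eq_one_of_dvd_coprimes h9 h7 h8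
    exact orderOf_eq_one_iff.1 h10
  obtain ⟨x, hx⟩ := (hf _).1 h4
  have h7 : (x : H)⁻¹ * t ∈ centralizer (K : Set H) := by
    rw [mem_centralizer_iff]
    intro y hy
    have h8 : (c t) ⟨y, hy⟩ = MulAut.conj x ⟨y, hy⟩ := by rw [← hx]
    have h9 : t * y * t⁻¹ = x * y * (x : H)⁻¹ := congrArg Subtype.val h8
    calc y * ((x : H)⁻¹ * t) = (x : H)⁻¹ * (x * y * (x : H)⁻¹) * t := by group
      _ = (x : H)⁻¹ * (t * y * t⁻¹) * t := by rw [h9]
      _ = (x : H)⁻¹ * t * y := by group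
  rw [hc, mem_bot, inv_mul_eq_one] at h7
  rw [← h7]
  exact x.2

/-- the contradiction in the model -/
theorem false_of_pk {Y : Type w} [Group Y] [Finite Y] {H : Type u} [Group H] [Finite H] {M : Type v} [Group M] [Finite M]
    [MulDistribMulAction H M] {K T A P Q U : Subgroup _} (h : InX H M K T A) (hP : Pk.{w, v} Y P Q U) (e : Y ≃* H) :
    False := by
  have : Fact (Nat.Prime 2) := ⟨Nat.prime_two⟩
  let _ : MulDistribMulAction Y M := MulDistribMulAction.compHom M e.toMonoidHom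
  have hsm : ∀ (y : Y) (m : M), y • m = e y • m := fun _ _ => rfl
  have hme : ∀ (B : Subgroup H) (y : Y), y ∈ B.comap e.toMonoidHom ↔ e y ∈ B := fun _ _ => Iff.rfl
  -- the Sylow subgroups
  have hT2 : IsPGroup 2 (T.comap e.toMonoidHom) := h.two.comap_of_injective _ e.injective
  have hTi : ¬ 2 ∣ (T.comap e.toMonoidHom).index := by
    rw [index_comap_of_surjective _ e.surjective]
    exact h.syl
  obtain ⟨g, hg⟩ := MulAction.exists_smul_eq Y (hP.U2.toSylow hP.Ui) (hT2.toSylow hTi)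
  have hUT : ∀ y, y ∈ T.comap e.toMonoidHom → g⁻¹ * y * g ∈ U := by
    intro y hy
    have h1 : y ∈ (hT2.toSylow hTi : Subgroup Y) := hy
    rw [← hg] at h1
    obtain ⟨x, hx, hxy⟩ := h1
    have h2 : g * x * g⁻¹ = y := hxy
    have h3 : x = g⁻¹ * y * g := by rw [← h2]; group
    rw [← h3]
    exact hx
  -- the overgroup
  obtain ⟨R, hR⟩ : ∃ R : Subgroup H, ∀ y : Y, e y ∈ R ↔ g⁻¹ * y * g ∈ P := by
    refine ⟨(P.map (MulAut.conj g).toMonoidHom).map e.toMonoidHom, fun y => ?_⟩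
    constructor
    · rintro ⟨_, ⟨p, hp, rfl⟩, hy⟩
      have h1 : g * p * g⁻¹ = y := e.injective hy
      rw [← h1]
      have h2 : g⁻¹ * (g * p * g⁻¹) * g = p := by group
      rwa [h2]
    · intro hy
      refine ⟨y, ⟨_, hy, ?_⟩, rfl⟩
      change g * (g⁻¹ * y * g) * g⁻¹ = y
      group
  have hTR : T ≤ R := by
    intro t ht
    obtain ⟨y, rfl⟩ := e.surjective t
    rw [hR]
    exact hP.UP (hUT y ht)
  have hRt : R ≠ ⊤ := by
    intro h1
    apply hP.ne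
    rw [eq_top_iff]
    intro p _
    have h2 := (hR (g * p * g⁻¹)).1 (h1 ▸ mem_top _)
    have h3 : g⁻¹ * (g * p * g⁻¹) * g = p := by group
    rwa [h3] at h2
  have hAR := h.low R hTR hRt
  -- `A` is in a conjugate of `Q`
  have hN : (o2 R).comap (e.toMonoidHom.comp (MulAut.conj g).toMonoidHom) ≤ Q := by
    refine hP.le _ ((o2_isPGroup R).comap_of_injective _ (e.injective.comp (MulAut.conj g).injective)) ?_
    intro p hp x hx
    have h1 : e (g * x * g⁻¹) ∈ o2 R := hx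
    have h2 : e (g * p * g⁻¹) ∈ R := by
      rw [hR]
      have h3 : g⁻¹ * (g * p * g⁻¹) * g = p := by group
      rwa [h3]
    have h3 := (mem_normalizer_iff.1 (le_normalizer_o2 R h2) _).1 h1
    rw [← map_inv, ← map_mul, ← map_mul] at h3
    have h4 : g * p * g⁻¹ * (g * x * g⁻¹) * (g * p * g⁻¹)⁻¹ = g * (p * x * p⁻¹) * g⁻¹ := by group
    rw [h4] at h3
    exact h3
  have hf := ls_fab (H := Y) M 1 1
  have hcA' : Nat.card (A.comap e.toMonoidHom) = Nat.card A :=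
    Nat.card_congr (e.toEquiv.subtypeEquiv fun y => Iff.rfl)
  have hfA : fab M 1 1 (A.comap e.toMonoidHom) = fab M 1 1 A := by
    have h1 : cv M ((A.comap e.toMonoidHom : Subgroup Y) : Set Y) = cv M (A : Set H) := by
      apply le_antisymm
      · intro m hm a ha
        obtain ⟨y, rfl⟩ := e.surjective a
        exact hm y ha
      · intro m hm y hy
        exact hm (e y) hy
    unfold fab
    rw [h1, hcA']
  have hcA : Nat.card (cj g⁻¹ (A.comap e.toMonoidHom)) = Nat.card A := by rw [Ratio.card_cj, hcA']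
  refine hP.fls M h.sq (fun y hy => ?_) (cj g⁻¹ (A.comap e.toMonoidHom)) ?_ ?_ ?_ ?_
  · have h1 := h.faith (e y) hy
    exact e.injective (by rw [h1, map_one])
  · intro x hx
    apply hN
    rw [mem_cj, inv_inv] at hx
    exact hAR hx
  · rw [hf.conj, hfA]
    have h1 := h.off.ge
    rw [CD.fab_bot] at h1 ⊢
    exact h1
  · intro x hx
    rw [mem_cj, inv_inv] at hx
    have h1 := h.el _ hx
    have h2 : g * x * g⁻¹ * (g * x * g⁻¹) = 1 := e.injective (by rw [map_mul, map_one]; exact h1)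
    have h3 : g * (x * x) * g⁻¹ = 1 := by
      rw [← h2]; group
    rw [mul_inv_eq_one] at h3
    exact mul_eq_left.1 h3
  · rw [hcA]
    have := h.four
    omega

/-- **`³D₄(2)`** -/
theorem deadX_twD4_two : DeadX.{u, v} fun S _ => ∃ (F : Type) (_ : Field F) (_ : Fintype F) (_ : CharP F 2),
    Fintype.card F = 2 ^ 3 ∧ Nonempty (S ≃* ↥(Lie.twistedD4 F 2)) := by
  rintro H _ _ M _ _ _ K T A h ⟨F, _, _, _, hF, ⟨e⟩⟩
  have hTK := le_of_two h.norm h.cen h.two hF e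
  have hKt : K = ⊤ := by
    rw [← h.gen]
    exact (sup_eq_left.2 hTK).symm
  obtain ⟨P, Q, U, hP⟩ := exists_pk.{0, v} (K := F) hF
  exact false_of_pk h hP ((e.symm.trans (MulEquiv.subgroupCongr hKt)).trans Subgroup.topEquiv)

end Cfsg.Agent.Omega.ML.Ex.RowTwDTwo

end
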